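import Groth.Agent.Lib.GrAlpha9.Main
import Groth.Agent.Lib.LC.DTExt
import Groth.Agent.Lib.LC.DTProp
import Groth.Prelude.Def_W4bk5brsh16IT

/-!
# The cokernel of `M → ⊕ₙ Γ(Proj, M(n)~)` is the first local cohomology
-/

universe u

set_option autoImplicit false
set_option linter.all false
set_option backward.isDefEq.respectTransparency false

open AlgebraicGeometry CategoryTheory TopologicalSpace Opposite DirectSum
open GrothLib.InvExt (mres)

noncomputable section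

namespace GrothLib.GrH1X3

open GrothLib.RelTilde8 GrothLib.GrAlpha9

variable {A σ : Type u} [CommRing A] [SetLike σ A] [AddSubgroupClass σ A] (𝒜 : ℕ → σ) [GradedRing 𝒜]
variable {M τ : Type u} [AddCommGroup M] [Module A M] [SetLike τ M] [AddSubgroupClass τ M] (ℳ : ℕ → τ)
variable [SetLike.GradedSMul 𝒜 ℳ] [DirectSum.Decomposition ℳ]

section comp

/-- The component of an integral degree. -/
def compZ (z : ℤ) (m : M) : M := if 0 ≤ z then ((decompose ℳ m z.toNat : ℳ z.toNat) : M) else 0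

omit [Module A M] in
theorem compZ_mem (z : ℤ) (m : M) : compZ ℳ z m ∈ ℳ z.toNat := by
  unfold compZ
  split_ifs with h
  · exact SetLike.coe_mem _
  · exact zero_mem _

omit [Module A M] in
theorem compZ_eq_zero_or (z : ℤ) (m : M) : (z.toNat : ℤ) = z ∨ compZ ℳ z m = 0 := by
  by_cases h : 0 ≤ z
  · exact Or.inl (Int.toNat_of_nonneg h)
  · exact Or.inr (if_neg h)

variable {ℳ} in
include 𝒜 in
theorem compZ_smul {l : ℕ} {a : A} (ha : a ∈ 𝒜 l) (z : ℤ) (m : M) :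
    compZ ℳ (l + z) (a • m) = a • compZ ℳ z m := by
  unfold compZ
  by_cases h : 0 ≤ z
  · obtain ⟨q, rfl⟩ := Int.eq_ofNat_of_zero_le h
    rw [if_pos h, if_pos (by positivity), Int.toNat_natCast,
      show ((l : ℤ) + q).toNat = l + q by rw [← Int.natCast_add, Int.toNat_natCast]]
    exact GrAlpha9.decompose_smul ha m q
  · rw [if_neg h, smul_zero]
    split_ifs with h'
    · exact GrAlpha9.decompose_smul_of_lt ha m (by omega)
    · rfl

omit [Module A M] in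
theorem sum_compZ [DecidableEq M] (c : ℕ) (m : M) (S : Finset ℤ)
    (hS : ∀ q ∈ (decompose ℳ m).support, (q : ℤ) - c ∈ S) : ∑ n ∈ S, compZ ℳ (c + n) m = m := by
  classical
  have h1 : ((decompose ℳ m).support.image fun q : ℕ => (q : ℤ) - c) ⊆ S := by
    intro n hn
    obtain ⟨q, hq, rfl⟩ := Finset.mem_image.1 hn
    exact hS q hq
  rw [← Finset.sum_subset h1 fun n _ hn => ?_, Finset.sum_image fun a _ b _ h => by simpa using h]
  · refine Eq.trans (Finset.sum_congr rfl fun q _ => ?_) (DirectSum.sum_support_decompose ℳ m)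
    have e : (c : ℤ) + ((q : ℤ) - c) = q := by ring
    rw [e]
    simp [compZ]
  · unfold compZ
    split_ifs with h
    · by_contra hne
      refine hn (Finset.mem_image.2 ⟨((c : ℤ) + n).toNat, DFinsupp.mem_support_iff.2 fun h0 => hne ?_, ?_⟩)
      · rw [h0]; rfl
      · rw [Int.toNat_of_nonneg h]; ring
    · rfl

end comp

variable (M) in
/-- The ideal transform of `M` at the irrelevant ideal. -/
abbrev D : ModuleCat.{u} A := (LocCoh.idealTransform (HomogeneousIdeal.irrelevant 𝒜).toIdeal).obj (ModuleCat.of A M)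

variable (M) in
/-- The unit of the ideal transform. -/
abbrev δ : M →ₗ[A] D 𝒜 M := LocCoh.toDT (HomogeneousIdeal.irrelevant 𝒜).toIdeal (ModuleCat.of A M)

/-- The global sections of `M(n)~`. -/
abbrev G (n : ℤ) : Type u := ((GrMod.tilde 𝒜 ℳ n).val.obj (op ⊤) : Type u)

variable {s : ℕ} (f : Fin s → A) (d : Fin s → ℕ)

/-- The value of a global section at a point. -/
def gev {n : ℤ} (y : Proj 𝒜) (t : G 𝒜 ℳ n) : GrMod.LocMod 𝒜 (M := M) y :=
  evM (⟨y, trivial⟩ : (⊤ : (Proj 𝒜).Opens)) t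

variable {𝒜 ℳ} in
theorem gev_add {n : ℤ} (y : Proj 𝒜) (t t' : G 𝒜 ℳ n) : gev 𝒜 ℳ y (t + t') = gev 𝒜 ℳ y t + gev 𝒜 ℳ y t' := rfl

variable {𝒜 ℳ} in
theorem gev_ext {n : ℤ} {t t' : G 𝒜 ℳ n} (h : ∀ y, gev 𝒜 ℳ y t = gev 𝒜 ℳ y t') : t = t' :=
  evM_ext fun y => h y.1

/-- `a / f i ^ k` represents `t` on `D(f i)`. -/
def Rep (i : Fin s) {n : ℤ} (t : G 𝒜 ℳ n) (k : ℕ) (a : M) : Prop :=
  (∃ p : ℕ, a ∈ ℳ p ∧ ((p : ℤ) = (k * d i : ℕ) + n ∨ a = 0)) ∧
    ∀ (y : Proj 𝒜) (hy : f i ∉ y.asHomogeneousIdeal), gev 𝒜 ℳ y t =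
      LocalizedModule.mk a (⟨f i ^ k, fun hm => hy (y.isPrime.mem_of_pow_mem k hm)⟩ :
        y.asHomogeneousIdeal.toIdeal.primeCompl)

variable (hd : ∀ i, 0 < d i) (hf : ∀ i, f i ∈ 𝒜 (d i)) (hirr : (HomogeneousIdeal.irrelevant 𝒜).toIdeal ≤ Ideal.span (Set.range f))

include hf in
theorem pow_mem_grade (i : Fin s) (L : ℕ) : f i ^ L ∈ 𝒜 (L * d i) := by
  simpa [smul_eq_mul] using SetLike.pow_mem_graded L (hf i)

include hd hf in
theorem mem_irr (i : Fin s) : f i ∈ (HomogeneousIdeal.irrelevant 𝒜).toIdeal := HomogeneousIdeal.mem_irrelevant_of_mem 𝒜 (hd i) (hf i)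

variable {𝒜 ℳ f d}

include hf in
theorem Rep.raise {i : Fin s} {n : ℤ} {t : G 𝒜 ℳ n} {k : ℕ} {a : M} (h : Rep 𝒜 ℳ f d i t k a) (L : ℕ) :
    Rep 𝒜 ℳ f d i t (L + k) (f i ^ L • a) := by
  obtain ⟨⟨p, hp, hpd⟩, hv⟩ := h
  refine ⟨⟨L * d i + p, GrAlpha9.smul_mem (pow_mem_grade 𝒜 f d hf i L) hp, ?_⟩, fun y hy => (hv y hy).trans ?_⟩
  · rcases hpd with hpd | hpd
    · exact Or.inl (by rw [Nat.add_mul]; push_cast at hpd ⊢; omega)
    · exact Or.inr (by rw [hpd, smul_zero])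
  · rw [LocalizedModule.mk_eq]
    refine ⟨1, ?_⟩
    simp only [one_smul, Submonoid.smul_def, ← mul_smul, ← pow_add]
    rw [Nat.add_comm k L]

include hd hf in
theorem exists_rep (i : Fin s) {n : ℤ} (t : G 𝒜 ℳ n) : ∃ k a, Rep 𝒜 ℳ f d i t k a := by
  obtain ⟨k, -, p, a, hp, ha, hv⟩ := exists_frac 𝒜 (hf i) (hd i)
    (mres (_root_.GrMod.tilde 𝒜 ℳ n) (le_top : Proj.basicOpen 𝒜 (f i) ≤ ⊤) t)
  exact ⟨k, a, ⟨p, ha, Or.inl hp⟩, fun y hy =>
    (evM_mres (le_top : Proj.basicOpen 𝒜 (f i) ≤ ⊤) t ⟨y, hy⟩).symm.trans (hv ⟨y, hy⟩)⟩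

include hd hf in
theorem Rep.agree {i : Fin s} {n : ℤ} {t : G 𝒜 ℳ n} {k k' : ℕ} {a a' : M} (h : Rep 𝒜 ℳ f d i t k a)
    (h' : Rep 𝒜 ℳ f d i t k' a') : ∃ N, f i ^ N • f i ^ k' • a = f i ^ N • f i ^ k • a' := by
  obtain ⟨⟨p, hp, hpd⟩, hv⟩ := h
  obtain ⟨⟨p', hp', hpd'⟩, hv'⟩ := h'
  refine exists_pow_smul_eq 𝒜 (h := f i) (hf i) (hd i) hp hp' (pow_mem_grade 𝒜 f d hf i k)
    (pow_mem_grade 𝒜 f d hf i k') hpd hpd' fun y hy => ?_
  obtain ⟨u, hu⟩ := LocalizedModule.mk_eq.1 ((hv y hy).symm.trans (hv' y hy))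
  exact ⟨u.1, u.2, by simpa [Submonoid.smul_def] using hu⟩

variable (𝒜 M) in
/-- `x` is killed by a power of `f i`. -/
def W (f : Fin s → A) (i : Fin s) (x : D 𝒜 M) : Prop := ∃ N : ℕ, f i ^ N • x = 0

theorem W.add {i : Fin s} {x y : D 𝒜 M} (hx : W 𝒜 M f i x) (hy : W 𝒜 M f i y) : W 𝒜 M f i (x + y) := by
  obtain ⟨N, hN⟩ := hx
  obtain ⟨N', hN'⟩ := hy
  refine ⟨N + N', ?_⟩
  rw [smul_add, pow_add, mul_smul, mul_smul, hN', smul_comm, hN, smul_zero, smul_zero, add_zero]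

theorem W.smul {i : Fin s} {x : D 𝒜 M} (hx : W 𝒜 M f i x) (c : A) : W 𝒜 M f i (c • x) := by
  obtain ⟨N, hN⟩ := hx
  exact ⟨N, by rw [smul_comm, hN, smul_zero]⟩

theorem W.cancel {i : Fin s} {x : D 𝒜 M} {k : ℕ} (hx : W 𝒜 M f i (f i ^ k • x)) : W 𝒜 M f i x := by
  obtain ⟨N, hN⟩ := hx
  exact ⟨N + k, by rw [pow_add, mul_smul, hN]⟩

variable [IsNoetherianRing A]

include hirr in
theorem exists_pow_le (J : Ideal A) (h : ∀ i, f i ∈ J.radical) : ∃ B, (HomogeneousIdeal.irrelevant 𝒜).toIdeal ^ B ≤ J :=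
  Ideal.exists_pow_le_of_le_radical_of_fg (hirr.trans (Ideal.span_le.2 (by rintro _ ⟨i, rfl⟩; exact h i)))
    (IsNoetherian.noetherian _)

include hirr in
theorem eq_zero_of_W {x : D 𝒜 M} (h : ∀ i, W 𝒜 M f i x) : x = 0 := by
  obtain ⟨B, hB⟩ := exists_pow_le (𝒜 := 𝒜) hirr (Submodule.span A {x}).annihilator fun i => by
    obtain ⟨N, hN⟩ := h i
    exact ⟨N, (Submodule.mem_annihilator_span_singleton x _).2 hN⟩
  have hx : x ∈ DRing.torsionSub (HomogeneousIdeal.irrelevant 𝒜).toIdeal (D 𝒜 M) :=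
    ⟨B, fun a ha => (Submodule.mem_annihilator_span_singleton x a).1 (hB ha)⟩
  rw [GrothLib.LC.torsionSub_idealTransform, Submodule.mem_bot] at hx
  exact hx

variable (𝒜 ℳ f d) in
/-- `x` is the element of the ideal transform given by the section `t`. -/
def Spec' {n : ℤ} (t : G 𝒜 ℳ n) (x : D 𝒜 M) : Prop :=
  ∀ i, ∀ k a, Rep 𝒜 ℳ f d i t k a → W 𝒜 M f i (f i ^ k • x - δ 𝒜 M a)

include hd hf in
theorem spec_of_one {n : ℤ} {t : G 𝒜 ℳ n} {x : D 𝒜 M}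
    (h : ∀ i, ∃ k a, Rep 𝒜 ℳ f d i t k a ∧ W 𝒜 M f i (f i ^ k • x - δ 𝒜 M a)) : Spec' 𝒜 ℳ f d t x := by
  intro i k' a' h'
  obtain ⟨k, a, hr, hw⟩ := h i
  obtain ⟨N, hN⟩ := hr.agree hd hf h'
  refine W.cancel (k := N + k) ?_
  have e : f i ^ (N + k) • (f i ^ k' • x - δ 𝒜 M a') =
      (f i ^ N * f i ^ k') • (f i ^ k • x - δ 𝒜 M a) := by
    rw [smul_sub, smul_sub, pow_add, ← mul_smul, ← mul_smul, mul_right_comm]
    congr 1
    rw [← map_smul, ← map_smul, mul_smul, mul_smul, hN]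
  rw [e]
  exact hw.smul _

include hd hf hirr in
theorem Spec'.unique {n : ℤ} {t : G 𝒜 ℳ n} {x x' : D 𝒜 M} (h : Spec' 𝒜 ℳ f d t x) (h' : Spec' 𝒜 ℳ f d t x') :
    x = x' := by
  refine sub_eq_zero.1 (eq_zero_of_W hirr fun i => ?_)
  obtain ⟨k, a, hr⟩ := exists_rep hd hf i t
  refine W.cancel (k := k) ?_
  have e : f i ^ k • (x - x') = (f i ^ k • x - δ 𝒜 M a) + (-1 : A) • (f i ^ k • x' - δ 𝒜 M a) := by
    rw [smul_sub, neg_one_smul]; abel
  rw [e]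
  exact (h i k a hr).add ((h' i k a hr).smul _)

include hd hf hirr in
theorem exists_of_family (K : ℕ) (a : Fin s → M) (h : ∀ i j, f j ^ K • a i = f i ^ K • a j) :
    ∃ x : D 𝒜 M, ∀ i, W 𝒜 M f i (f i ^ K • x - δ 𝒜 M (a i)) := by
  let π : (Fin s → A) →ₗ[A] A := Fintype.linearCombination A fun i => f i ^ K
  let ψ : (Fin s → A) →ₗ[A] D 𝒜 M := Fintype.linearCombination A fun i => δ 𝒜 M (a i)
  have hker : LinearMap.ker π ≤ LinearMap.ker ψ := by
    intro r hr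
    rw [LinearMap.mem_ker, Fintype.linearCombination_apply] at hr
    rw [LinearMap.mem_ker]
    refine eq_zero_of_W hirr fun j => ⟨K, ?_⟩
    rw [Fintype.linearCombination_apply, Finset.smul_sum]
    have e : ∀ i, f j ^ K • r i • δ 𝒜 M (a i) = (r i * f i ^ K) • δ 𝒜 M (a j) := fun i => by
      rw [smul_comm, ← map_smul, h i j, map_smul, mul_smul]
    simp only [e, ← Finset.sum_smul]
    simp only [smul_eq_mul] at hr
    rw [hr, zero_smul]
  let g : LinearMap.range π →ₗ[A] D 𝒜 M :=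
    (LinearMap.ker π).liftQ ψ hker ∘ₗ π.quotKerEquivRange.symm.toLinearMap
  have hg : ∀ i, g ⟨π (Pi.single i 1), LinearMap.mem_range_self _ _⟩ = δ 𝒜 M (a i) := fun i => by
    show (LinearMap.ker π).liftQ ψ hker (π.quotKerEquivRange.symm _) = _
    rw [LinearMap.quotKerEquivRange_symm_apply_image, Submodule.mkQ_apply, Submodule.liftQ_apply]
    simp [ψ]
  have hπ : ∀ i, π (Pi.single i 1) = f i ^ K := fun i => by simp [π]
  obtain ⟨B, hB⟩ := exists_pow_le (𝒜 := 𝒜) hirr (LinearMap.range π) fun i => ⟨K, _, hπ i⟩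
  let h : GrothLib.LC.powI (HomogeneousIdeal.irrelevant 𝒜).toIdeal B ⟶ D 𝒜 M := ModuleCat.ofHom (g ∘ₗ Submodule.inclusion hB)
  have hbij : Function.Bijective (LocCoh.toDT (HomogeneousIdeal.irrelevant 𝒜).toIdeal (D 𝒜 M)) := by
    rw [GrothLib.LC.toDT_idealTransform_eq]
    exact GrothLib.LC.map_toDT_bijective _ _
  obtain ⟨x, hx⟩ := hbij.2 (GrothLib.LC.toD (HomogeneousIdeal.irrelevant 𝒜).toIdeal B (D 𝒜 M) h)
  refine ⟨x, fun i => W.cancel (k := B) ?_⟩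
  have hb : f i ^ B * f i ^ K ∈ (HomogeneousIdeal.irrelevant 𝒜).toIdeal ^ B :=
    Ideal.mul_mem_right _ _ (Ideal.pow_mem_pow (mem_irr 𝒜 f d hd hf i) B)
  have e1 : (f i ^ B * f i ^ K) • x = h ⟨_, hb⟩ := by
    refine hbij.1 ?_
    rw [map_smul, hx]
    exact GrothLib.LC.smul_toD (HomogeneousIdeal.irrelevant 𝒜).toIdeal h hb
  have e2 : h ⟨f i ^ B * f i ^ K, hb⟩ = f i ^ B • δ 𝒜 M (a i) := by
    rw [← hg i, ← map_smul g]
    exact congrArg g (Subtype.ext (by simp [hπ]))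
  refine ⟨0, ?_⟩
  rw [pow_zero, one_smul, smul_sub, ← mul_smul, e1, e2, sub_self]

include hd hf hirr in
theorem exists_spec {n : ℤ} (t : G 𝒜 ℳ n) : ∃ x : D 𝒜 M, Spec' 𝒜 ℳ f d t x := by
  classical
  choose k a hr using fun i => exists_rep hd hf i t
  let K := Finset.univ.sup k
  let b : Fin s → M := fun i => f i ^ (K - k i) • a i
  have hb : ∀ i, Rep 𝒜 ℳ f d i t K (b i) := fun i => by
    have := (hr i).raise hf (K - k i)
    rwa [Nat.sub_add_cancel (Finset.le_sup (f := k) (Finset.mem_univ i))] at this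
  have hc : ∀ ij : Fin s × Fin s, ∃ L : ℕ,
      (f ij.1 * f ij.2) ^ L • f ij.2 ^ K • b ij.1 = (f ij.1 * f ij.2) ^ L • f ij.1 ^ K • b ij.2 := by
    rintro ⟨i, j⟩
    obtain ⟨⟨p, hp, hpd⟩, hv⟩ := hb i
    obtain ⟨⟨p', hp', hpd'⟩, hv'⟩ := hb j
    refine exists_pow_smul_eq 𝒜 (SetLike.mul_mem_graded (hf i) (hf j)) (Nat.add_pos_left (hd i) _) hp hp'
      (pow_mem_grade 𝒜 f d hf i K) (pow_mem_grade 𝒜 f d hf j K) hpd hpd' fun y hy => ?_
    obtain ⟨hi, hj⟩ := mem_basicOpen_mul.1 hy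
    obtain ⟨u, hu⟩ := LocalizedModule.mk_eq.1 ((hv y hi).symm.trans (hv' y hj))
    exact ⟨u.1, u.2, by simpa [Submonoid.smul_def] using hu⟩
  choose L hL using hc
  obtain ⟨L₀, hL₀⟩ : ∃ L₀, ∀ ij, L ij ≤ L₀ := ⟨Finset.univ.sup L, fun ij => Finset.le_sup (Finset.mem_univ ij)⟩
  clear_value b
  obtain ⟨x, hx⟩ := exists_of_family (𝒜 := 𝒜) hd hf hirr (L₀ + K) (fun i => f i ^ L₀ • b i) fun i j => by
    obtain ⟨e, he⟩ := Nat.exists_eq_add_of_le (hL₀ (i, j))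
    have h1 := congrArg (fun m => (f i * f j) ^ e • m) (hL (i, j))
    simp only [smul_smul] at h1
    rw [smul_smul, smul_smul,
      show f j ^ (L₀ + K) * f i ^ L₀ = (f i * f j) ^ e * ((f i * f j) ^ L (i, j) * f j ^ K) by rw [he]; ring,
      show f i ^ (L₀ + K) * f j ^ L₀ = (f i * f j) ^ e * ((f i * f j) ^ L (i, j) * f i ^ K) by rw [he]; ring]
    exact h1
  exact ⟨x, spec_of_one hd hf fun i => ⟨L₀ + K, _, (hb i).raise hf L₀, hx i⟩⟩

variable (𝒜 ℳ) in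
/-- The map from the sections of degree `n` to the ideal transform. -/
def Φn (n : ℤ) : G 𝒜 ℳ n →+ D 𝒜 M :=
  AddMonoidHom.mk' (fun t => (exists_spec hd hf hirr t).choose) fun t t' => by
    refine Spec'.unique hd hf hirr (exists_spec hd hf hirr (t + t')).choose_spec (spec_of_one hd hf fun i => ?_)
    obtain ⟨k, a, hr⟩ := exists_rep hd hf i t
    obtain ⟨k', a', hr'⟩ := exists_rep hd hf i t'
    have h1 := hr.raise hf k'
    have h2 := hr'.raise hf k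
    rw [Nat.add_comm k' k] at h1
    refine ⟨k + k', f i ^ k' • a + f i ^ k • a', ⟨?_, fun y hy => ?_⟩, ?_⟩
    · obtain ⟨p, hp, hpd⟩ := h1.1
      obtain ⟨p', hp', hpd'⟩ := h2.1
      rcases hpd with hpd | hpd
      · rcases hpd' with hpd' | hpd'
        · obtain rfl : p = p' := by omega
          exact ⟨p, add_mem hp hp', Or.inl hpd⟩
        · exact ⟨p, by rw [hpd', add_zero]; exact hp, Or.inl hpd⟩
      · exact ⟨p', by rw [hpd, zero_add]; exact hp', by rw [hpd, zero_add]; exact hpd'⟩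
    · rw [gev_add, h1.2 y hy, h2.2 y hy, LocalizedModule.mk_add_mk, LocalizedModule.mk_eq]
      refine ⟨1, ?_⟩
      simp only [one_smul, Submonoid.smul_def, Submonoid.coe_mul, mul_smul, smul_add]
    · have := ((exists_spec hd hf hirr t).choose_spec i _ _ h1).add
        ((exists_spec hd hf hirr t').choose_spec i _ _ h2)
      rw [smul_add, map_add]
      rwa [sub_add_sub_comm] at this

theorem spec_Φn {n : ℤ} (t : G 𝒜 ℳ n) : Spec' 𝒜 ℳ f d t (Φn 𝒜 ℳ hd hf hirr n t) :=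
  (exists_spec hd hf hirr t).choose_spec

variable (𝒜 ℳ) in
/-- The map from all sections to the ideal transform. -/
def Φ : DirectSum ℤ (G 𝒜 ℳ) →+ D 𝒜 M := DirectSum.toAddMonoid (Φn 𝒜 ℳ hd hf hirr)

theorem Φ_alpha (i : ℕ) (m : ℳ i) :
    Φ 𝒜 ℳ hd hf hirr (DirectSum.of (G 𝒜 ℳ) (i : ℤ) (GrMod.alpha 𝒜 ℳ i m)) = δ 𝒜 M (m : M) := by
  rw [Φ, DirectSum.toAddMonoid_of]
  refine Spec'.unique hd hf hirr (spec_Φn hd hf hirr _) (spec_of_one hd hf fun j => ?_)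
  refine ⟨0, m, ⟨⟨i, m.2, Or.inl (by simp)⟩, fun y hy => ?_⟩, ⟨0, by simp⟩⟩
  show LocalizedModule.mk (m : M) 1 = _
  congr 1
  exact Subtype.ext (pow_zero _).symm

include hirr in
theorem exists_section {n : ℤ} (K : ℕ) (a : Fin s → M)
    (ha : ∀ i, ∃ p : ℕ, a i ∈ ℳ p ∧ ((p : ℤ) = (K * d i : ℕ) + n ∨ a i = 0)) (hf : ∀ i, f i ∈ 𝒜 (d i))
    (h : ∀ i j, f j ^ K • a i = f i ^ K • a j) :
    ∃ t : G 𝒜 ℳ n, ∀ i, Rep 𝒜 ℳ f d i t K (a i) := by
  choose c hc using fun y : ProjectiveSpectrum 𝒜 => exists_notMem_gen 𝒜 hirr y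
  choose p hp hpd using ha
  let v : ∀ y : (⊤ : (Proj 𝒜).Opens), GrMod.tildeAt 𝒜 ℳ n y.1 := fun y =>
    ⟨LocalizedModule.mk (a (c y.1)) ⟨f (c y.1) ^ K, fun hm => hc y.1 (y.1.isPrime.mem_of_pow_mem K hm)⟩,
      (hpd (c y.1)).elim
        (fun he => Submodule.subset_span ⟨p (c y.1), K * d (c y.1), ⟨_, hp _⟩,
          ⟨_, pow_mem_grade 𝒜 f d hf _ K⟩, _, he, rfl⟩)
        (fun he => by rw [he, LocalizedModule.zero_mk]; exact zero_mem _)⟩
  have heq : ∀ (y : (⊤ : (Proj 𝒜).Opens)) (j : Fin s) (hj : f j ∉ y.1.asHomogeneousIdeal),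
      (v y).1 = LocalizedModule.mk (a j) (⟨f j ^ K, fun hm => hj (y.1.isPrime.mem_of_pow_mem K hm)⟩ :
        y.1.asHomogeneousIdeal.toIdeal.primeCompl) := by
    intro y j hj
    show LocalizedModule.mk _ _ = _
    rw [LocalizedModule.mk_eq]
    exact ⟨1, by simpa [Submonoid.smul_def] using h (c y.1) j⟩
  have hpred : (GrMod.isLocFrac 𝒜 ℳ n).pred v := fun y => by
    let j := c y.1
    exact ⟨Proj.basicOpen 𝒜 (f j), hc y.1, homOfLE le_top, p j, K * d j, ⟨a j, hp j⟩,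
      ⟨f j ^ K, pow_mem_grade 𝒜 f d hf j K⟩, fun z hm => z.2 (z.1.isPrime.mem_of_pow_mem K hm), hpd j,
      fun z => heq ⟨z.1, trivial⟩ j z.2⟩
  exact ⟨⟨v, hpred⟩, fun i => ⟨⟨p i, hp i, hpd i⟩, fun y hy => heq ⟨y, trivial⟩ i hy⟩⟩

theorem Φ_surjective : Function.Surjective (Φ 𝒜 ℳ hd hf hirr) := by
  classical
  intro x
  obtain ⟨k, h, rfl⟩ := GrothLib.LC.exists_toD (HomogeneousIdeal.irrelevant 𝒜).toIdeal x
  have hm : ∀ i, f i ^ k ∈ (HomogeneousIdeal.irrelevant 𝒜).toIdeal ^ k := fun i => Ideal.pow_mem_pow (mem_irr 𝒜 f d hd hf i) k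
  let a : Fin s → M := fun i => h ⟨f i ^ k, hm i⟩
  have hax : ∀ i, f i ^ k • GrothLib.LC.toD (HomogeneousIdeal.irrelevant 𝒜).toIdeal k (ModuleCat.of A M) h = δ 𝒜 M (a i) := fun i =>
    GrothLib.LC.smul_toD (HomogeneousIdeal.irrelevant 𝒜).toIdeal h (hm i)
  have hac : ∀ i j, f j ^ k • a i = f i ^ k • a j := fun i j => by
    show f j ^ k • h.hom _ = f i ^ k • h.hom _
    rw [← map_smul, ← map_smul]
    exact congrArg _ (Subtype.ext (mul_comm _ _))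
  let S : Finset ℤ := Finset.univ.biUnion fun i =>
    (decompose ℳ (a i)).support.image fun q : ℕ => (q : ℤ) - (k * d i : ℕ)
  let b : ℤ → Fin s → M := fun n i => compZ ℳ ((k * d i : ℕ) + n) (a i)
  have hb : ∀ n, ∃ t : G 𝒜 ℳ n, ∀ i, Rep 𝒜 ℳ f d i t k (b n i) := fun n =>
    exists_section hirr k (b n) (fun i => ⟨_, compZ_mem ℳ _ _, compZ_eq_zero_or ℳ _ _⟩) hf fun i j => by
      show f j ^ k • compZ ℳ _ (a i) = f i ^ k • compZ ℳ _ (a j)
      rw [← compZ_smul 𝒜 (pow_mem_grade 𝒜 f d hf j k), ← compZ_smul 𝒜 (pow_mem_grade 𝒜 f d hf i k), hac i j,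
        add_left_comm]
  choose t ht using hb
  refine ⟨∑ n ∈ S, DirectSum.of (G 𝒜 ℳ) n (t n), ?_⟩
  simp only [map_sum, Φ, DirectSum.toAddMonoid_of]
  refine sub_eq_zero.1 (eq_zero_of_W hirr fun i => W.cancel (k := k) ?_)
  have hsum : ∑ n ∈ S, b n i = a i := sum_compZ ℳ (k * d i) (a i) S fun q hq =>
    Finset.mem_biUnion.2 ⟨i, Finset.mem_univ i, Finset.mem_image.2 ⟨q, hq, rfl⟩⟩
  rw [smul_sub, Finset.smul_sum, hax, ← hsum, map_sum, ← Finset.sum_sub_distrib]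
  refine Finset.sum_induction _ (W 𝒜 M f i) (fun _ _ => W.add) ⟨0, smul_zero _⟩ fun n _ => ?_
  exact spec_Φn hd hf hirr (t n) i k (b n i) (ht n i)

theorem Φ_injective : Function.Injective (Φ 𝒜 ℳ hd hf hirr) := by
  classical
  rw [injective_iff_map_eq_zero]
  intro z hz
  refine DFinsupp.ext fun n₀ => gev_ext fun y => ?_
  obtain ⟨i, hi⟩ := exists_notMem_gen 𝒜 hirr y
  choose k a hr using fun n : ℤ => exists_rep hd hf i (z n)
  let K := (insert n₀ z.support).sup k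
  let b : ℤ → M := fun n => f i ^ (K - k n) • a n
  have hb : ∀ n ∈ insert n₀ z.support, Rep 𝒜 ℳ f d i (z n) K (b n) := fun n hn => by
    have := (hr n).raise hf (K - k n)
    rwa [Nat.sub_add_cancel (Finset.le_sup (f := k) hn)] at this
  have hW : W 𝒜 M f i (δ 𝒜 M (∑ n ∈ insert n₀ z.support, b n)) := by
    have h0 : ∑ n ∈ insert n₀ z.support, Φn 𝒜 ℳ hd hf hirr n (z n) = 0 := by
      rw [← hz]
      conv_rhs => rw [← DirectSum.sum_support_of z]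
      simp only [map_sum, Φ, DirectSum.toAddMonoid_of]
      refine (Finset.sum_subset (Finset.subset_insert _ _) fun n _ hn => ?_).symm
      rw [DFinsupp.notMem_support_iff.1 hn, map_zero]
    have h1 : W 𝒜 M f i (∑ n ∈ insert n₀ z.support, (f i ^ K • Φn 𝒜 ℳ hd hf hirr n (z n) - δ 𝒜 M (b n))) :=
      Finset.sum_induction _ (W 𝒜 M f i) (fun _ _ => W.add) ⟨0, smul_zero _⟩ fun n hn =>
        spec_Φn hd hf hirr (z n) i K (b n) (hb n hn)
    rw [Finset.sum_sub_distrib, ← Finset.smul_sum, h0, smul_zero, zero_sub, ← map_sum] at h1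
    simpa using h1.smul (-1)
  obtain ⟨N, hN⟩ := hW
  rw [← map_smul, GrothLib.LC.toDT_eq_zero_iff] at hN
  obtain ⟨B, hB⟩ := hN
  have h2 : f i ^ (B + N) • ∑ n ∈ insert n₀ z.support, b n = 0 := by
    rw [pow_add, mul_smul]
    exact hB _ (Ideal.pow_mem_pow (mem_irr 𝒜 f d hd hf i) B)
  have hg : gev 𝒜 ℳ y (z n₀) = 0 := by
    obtain ⟨⟨p, hp, hpd⟩, hv⟩ := hb n₀ (Finset.mem_insert_self _ _)
    rw [hv y hi]
    rcases hpd with hpd | hpd
    swap
    · rw [hpd, LocalizedModule.zero_mk]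
    have h3 := congrArg (compZ ℳ (((B + N) * d i : ℕ) + (p : ℤ))) h2
    rw [compZ_smul 𝒜 (pow_mem_grade 𝒜 f d hf i (B + N))] at h3
    have h5 : compZ ℳ (p : ℤ) (∑ n ∈ insert n₀ z.support, b n) = b n₀ := by
      let φ : M →+ M := AddMonoidHom.mk' (fun m => ((decompose ℳ m p : ℳ p) : M)) fun u v => by
        simp [decompose_add]
      simp only [compZ, Int.natCast_nonneg, if_true, Int.toNat_natCast]
      show φ (∑ n ∈ insert n₀ z.support, b n) = b n₀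
      rw [map_sum]
      rw [Finset.sum_eq_single n₀ (fun n hn hne => ?_) (fun h => absurd (Finset.mem_insert_self _ _) h)]
      · exact decompose_of_mem_same ℳ hp
      obtain ⟨q, hq, hqd⟩ := (hb n hn).1
      rcases hqd with hqd | hqd
      · exact decompose_of_mem_ne ℳ hq (fun e : q = p => hne (by subst e; omega))
      · simp [hqd]
    rw [h5] at h3
    have h4 : f i ^ (B + N) • b n₀ = 0 := by
      rw [h3]
      simp [compZ]
    rw [← LocalizedModule.zero_mk (1 : y.asHomogeneousIdeal.toIdeal.primeCompl), LocalizedModule.mk_eq]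
    exact ⟨⟨f i ^ (B + N), fun hm => hi (y.isPrime.mem_of_pow_mem _ hm)⟩, by simpa [Submonoid.smul_def] using h4⟩
  rw [hg]
  rfl

omit hd hf hirr

variable (𝒜 ℳ) in
theorem nonempty_coker_equiv :
    Nonempty ((DirectSum ℤ (G 𝒜 ℳ) ⧸
        AddSubgroup.closure (⋃ i : ℕ, Set.range (fun m : ℳ i =>
          DirectSum.of (G 𝒜 ℳ) (i : ℤ) (GrMod.alpha 𝒜 ℳ i m)))) ≃+
      LocCoh.H (HomogeneousIdeal.irrelevant 𝒜).toIdeal 1 M) := by
  classical
  obtain ⟨s, f, d, hd, hf, hirr⟩ := exists_generators_irrelevant 𝒜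
  let e : DirectSum ℤ (G 𝒜 ℳ) ≃+ D 𝒜 M :=
    AddEquiv.ofBijective (Φ 𝒜 ℳ hd hf hirr) ⟨Φ_injective hd hf hirr, Φ_surjective hd hf hirr⟩
  refine ⟨(QuotientAddGroup.congr _ (LinearMap.range (δ 𝒜 M)).toAddSubgroup e ?_).trans
    (GrothLib.LC.cokerToDTEquiv (HomogeneousIdeal.irrelevant 𝒜).toIdeal (ModuleCat.of A M)).toAddEquiv⟩
  rw [AddMonoidHom.map_closure]
  refine le_antisymm ((AddSubgroup.closure_le _).2 ?_) ?_
  · rintro _ ⟨_, hx, rfl⟩
    obtain ⟨i, m, rfl⟩ := Set.mem_iUnion.1 hx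
    exact ⟨m, (Φ_alpha hd hf hirr i m).symm⟩
  · rintro _ ⟨m, rfl⟩
    rw [← DirectSum.sum_support_decompose ℳ m, map_sum]
    refine sum_mem fun i _ => AddSubgroup.subset_closure ⟨_, Set.mem_iUnion.2 ⟨i, decompose ℳ m i, rfl⟩, ?_⟩
    exact Φ_alpha hd hf hirr i _

end GrothLib.GrH1X3
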